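import Cfsg.Agent.H6.Inv
import Cfsg.Agent.H6.Fi22.Main

set_option autoImplicit false
set_option maxRecDepth 100000
set_option Elab.async false

namespace Cfsg.H6.Fi22I

def sg : List (List ℕ) := [[], [nat_lit 1], [nat_lit 3], [nat_lit 5], [nat_lit 7], [nat_lit 8], [nat_lit 4, nat_lit 8, nat_lit 5, nat_lit 4, nat_lit 3, nat_lit 4, nat_lit 5, nat_lit 8, nat_lit 4], [nat_lit 6, nat_lit 5, nat_lit 4, nat_lit 8, nat_lit 7, nat_lit 6, nat_lit 5, nat_lit 4, nat_lit 3, nat_lit 4, nat_lit 5, nat_lit 6, nat_lit 7, nat_lit 8, nat_lit 4, nat_lit 5, nat_lit 6], [nat_lit 2, nat_lit 3, nat_lit 4, nat_lit 8, nat_lit 5, nat_lit 4, nat_lit 3, nat_lit 2, nat_lit 1, nat_lit 2, nat_lit 3, nat_lit 4, nat_lit 5, nat_lit 8, nat_lit 4, nat_lit 3, nat_lit 2], [nat_lit 6, nat_lit 5, nat_lit 2, nat_lit 3, nat_lit 4, nat_lit 8, nat_lit 7, nat_lit 6, nat_lit 5, nat_lit 4, nat_lit 3, nat_lit 2, nat_lit 1, nat_lit 2, nat_lit 3, nat_lit 4,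 nat_lit 5, nat_lit 6, nat_lit 7, nat_lit 8, nat_lit 4, nat_lit 3, nat_lit 2, nat_lit 5, nat_lit 6], [nat_lit 9, nat_lit 8, nat_lit 4, nat_lit 5, nat_lit 3, nat_lit 4, nat_lit 8, nat_lit 9, nat_lit 6, nat_lit 5, nat_lit 2, nat_lit 3, nat_lit 4, nat_lit 8, nat_lit 7, nat_lit 6, nat_lit 5, nat_lit 4, nat_lit 3, nat_lit 2, nat_lit 1, nat_lit 2, nat_lit 3, nat_lit 4, nat_lit 5, nat_lit 6, nat_lit 7, nat_lit 8, nat_lit 4, nat_lit 3, nat_lit 2, nat_lit 5, nat_lit 6, nat_lit 9, nat_lit 8, nat_lit 4, nat_lit 3, nat_lit 5, nat_lit 4, nat_lit 8, nat_lit 9], [nat_lit 2, nat_lit 3, nat_lit 1, nat_lit 2], [nat_lit 4, nat_lit 3, nat_lit 6, nat_lit 5, nat_lit 4, nat_lit 8, nat_lit 3, nat_lit 4, nat_lit 5, nat_lit 6, nat_lit 3, nat_lit 4], [nat_lit 4, nat_lit 3, nat_lit 6, nat_lit 5, nat_lit 4, nat_lit 3, nat_lit 9, nat_lit 8, nat_lit 4, nat_lit 3, nat_lit 5, nat_lit 4, nat_lit 6, nat_lit 7, nat_lit 5, nat_lit 6, nat_lit 4, nat_lit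 5, nat_lit 3, nat_lit 4, nat_lit 8, nat_lit 9, nat_lit 3, nat_lit 4, nat_lit 5, nat_lit 6, nat_lit 3, nat_lit 4], [nat_lit 2, nat_lit 3, nat_lit 1, nat_lit 2], [nat_lit 4, nat_lit 5, nat_lit 3, nat_lit 4], [nat_lit 4, nat_lit 8, nat_lit 3, nat_lit 4], [nat_lit 6, nat_lit 7, nat_lit 5, nat_lit 6], [nat_lit 9, nat_lit 8, nat_lit 4, nat_lit 5, nat_lit 3, nat_lit 4, nat_lit 8, nat_lit 9]]

def A : List (List ℕ) := [[nat_lit 0, nat_lit 0, nat_lit 0, nat_lit 0, nat_lit 0, nat_lit 0, nat_lit 0, nat_lit 0, nat_lit 0, nat_lit 0], [nat_lit 1, nat_lit 2, nat_lit 4, nat_lit 8, nat_lit 16, nat_lit 32, nat_lit 64, nat_lit 128, nat_lit 256, nat_lit 512], [nat_lit 1, nat_lit 2, nat_lit 4, nat_lit 8, nat_lit 16, nat_lit 32, nat_lit 64, nat_lit 128, nat_lit 256, nat_lit 512], [nat_lit 1, nat_lit 2, nat_lit 4, nat_lit 8, nat_lit 16, nat_lit 32, nat_lit 64, nat_lit 128, nat_lit 256, nat_lit 512], [nat_lit 1, nat_lit 2, nat_lit 4,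 nat_lit 8, nat_lit 16, nat_lit 32, nat_lit 64, nat_lit 128, nat_lit 256, nat_lit 512], [nat_lit 1, nat_lit 2, nat_lit 4, nat_lit 8, nat_lit 16, nat_lit 32, nat_lit 64, nat_lit 128, nat_lit 256, nat_lit 512], [nat_lit 1, nat_lit 2, nat_lit 4, nat_lit 8, nat_lit 16, nat_lit 32, nat_lit 64, nat_lit 128, nat_lit 256, nat_lit 512], [nat_lit 1, nat_lit 2, nat_lit 4, nat_lit 8, nat_lit 16, nat_lit 32, nat_lit 64, nat_lit 128, nat_lit 256, nat_lit 512], [nat_lit 1, nat_lit 2, nat_lit 4, nat_lit 8, nat_lit 16, nat_lit 32, nat_lit 64, nat_lit 128, nat_lit 256, nat_lit 512], [nat_lit 1, nat_lit 2, nat_lit 4, nat_lit 8, nat_lit 16, nat_lit 32, nat_lit 64, nat_lit 128, nat_lit 256, nat_lit 512], [nat_lit 1, nat_lit 2, nat_lit 4, nat_lit 8, nat_lit 16, nat_lit 32, nat_lit 64, nat_lit 128, nat_lit 256, nat_lit 512], [nat_lit 2, nat_lit 1, nat_lit 4, nat_lit 8, nat_lit 16, nat_lit 128, nat_lit 256, nat_lit 32, nat_lit 64, nat_lit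 684], [nat_lit 1, nat_lit 2, nat_lit 32, nat_lit 64, nat_lit 16, nat_lit 4, nat_lit 8, nat_lit 183, nat_lit 347, nat_lit 965], [nat_lit 1, nat_lit 2, nat_lit 4, nat_lit 8, nat_lit 126, nat_lit 64, nat_lit 32, nat_lit 815, nat_lit 684, nat_lit 611], [nat_lit 2, nat_lit 1, nat_lit 4, nat_lit 8, nat_lit 16, nat_lit 128, nat_lit 256, nat_lit 32, nat_lit 64, nat_lit 684], [nat_lit 1, nat_lit 4, nat_lit 2, nat_lit 8, nat_lit 32, nat_lit 16, nat_lit 64, nat_lit 128, nat_lit 496, nat_lit 761], [nat_lit 1, nat_lit 16, nat_lit 32, nat_lit 8, nat_lit 2, nat_lit 4, nat_lit 64, nat_lit 128, nat_lit 347, nat_lit 684], [nat_lit 1, nat_lit 2, nat_lit 8, nat_lit 4, nat_lit 16, nat_lit 64, nat_lit 32, nat_lit 256, nat_lit 128, nat_lit 611], [nat_lit 1, nat_lit 4, nat_lit 2, nat_lit 8, nat_lit 16, nat_lit 32, nat_lit 126, nat_lit 183, nat_lit 512, nat_lit 256]]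

def M : List ICos := [([], [nat_lit 0, nat_lit 0, nat_lit 0, nat_lit 0, nat_lit 0, nat_lit 0, nat_lit 0, nat_lit 0, nat_lit 0, nat_lit 0, nat_lit 0, nat_lit 1, nat_lit 2, nat_lit 3], [nat_lit 0, nat_lit 0, nat_lit 0], [], 0, 0),
  ([nat_lit 11], [nat_lit 0, nat_lit 0, nat_lit 0, nat_lit 0, nat_lit 0, nat_lit 0, nat_lit 0, nat_lit 0, nat_lit 0, nat_lit 0, nat_lit 0, nat_lit 0, nat_lit 4, nat_lit 5], [nat_lit 0, nat_lit 0, nat_lit 0], [], 0, 1),
  ([nat_lit 12], [nat_lit 0, nat_lit 0, nat_lit 0, nat_lit 0, nat_lit 0, nat_lit 0, nat_lit 0, nat_lit 0, nat_lit 0, nat_lit 0, nat_lit 0, nat_lit 6, nat_lit 0, nat_lit 7], [nat_lit 0, nat_lit 0, nat_lit 0], [nat_lit 15, nat_lit 11, nat_lit 17, nat_lit 16], 0, 1),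
  ([nat_lit 13], [nat_lit 0, nat_lit 0, nat_lit 0, nat_lit 0, nat_lit 0, nat_lit 0, nat_lit 0, nat_lit 0, nat_lit 0, nat_lit 0, nat_lit 0, nat_lit 8, nat_lit 9, nat_lit 0], [nat_lit 0, nat_lit 0, nat_lit 0], [nat_lit 15, nat_lit 17, nat_lit 16, nat_lit 11, nat_lit 18], 0, 1),
  ([nat_lit 11, nat_lit 12], [nat_lit 0, nat_lit 0, nat_lit 0, nat_lit 0, nat_lit 0, nat_lit 0, nat_lit 0, nat_lit 0, nat_lit 0, nat_lit 0, nat_lit 0, nat_lit 10, nat_lit 1, nat_lit 11], [nat_lit 0, nat_lit 0, nat_lit 0], [], 0, 0),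
  ([nat_lit 11, nat_lit 13], [nat_lit 0, nat_lit 0, nat_lit 0, nat_lit 0, nat_lit 0, nat_lit 0, nat_lit 0, nat_lit 0, nat_lit 0, nat_lit 0, nat_lit 0, nat_lit 12, nat_lit 13, nat_lit 1], [nat_lit 0, nat_lit 0, nat_lit 0], [], 0, 0),
  ([nat_lit 12, nat_lit 11], [nat_lit 0, nat_lit 0, nat_lit 0, nat_lit 0, nat_lit 0, nat_lit 0, nat_lit 0, nat_lit 0, nat_lit 0, nat_lit 0, nat_lit 0, nat_lit 2, nat_lit 14, nat_lit 15], [nat_lit 0, nat_lit 0, nat_lit 0], [], 0, 0),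
  ([nat_lit 12, nat_lit 13], [nat_lit 0, nat_lit 0, nat_lit 0, nat_lit 0, nat_lit 0, nat_lit 0, nat_lit 0, nat_lit 0, nat_lit 0, nat_lit 0, nat_lit 0, nat_lit 16, nat_lit 17, nat_lit 2], [nat_lit 0, nat_lit 0, nat_lit 0], [], 0, 0),
  ([nat_lit 13, nat_lit 11], [nat_lit 0, nat_lit 0, nat_lit 0, nat_lit 0, nat_lit 0, nat_lit 0, nat_lit 0, nat_lit 0, nat_lit 0, nat_lit 0, nat_lit 0, nat_lit 3, nat_lit 18, nat_lit 19], [nat_lit 0, nat_lit 0, nat_lit 0], [], 0, 0),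
  ([nat_lit 13, nat_lit 12], [nat_lit 0, nat_lit 0, nat_lit 0, nat_lit 0, nat_lit 0, nat_lit 0, nat_lit 0, nat_lit 0, nat_lit 0, nat_lit 0, nat_lit 0, nat_lit 20, nat_lit 3, nat_lit 21], [nat_lit 0, nat_lit 0, nat_lit 0], [], 0, 0),
  ([nat_lit 11, nat_lit 12, nat_lit 11], [nat_lit 0, nat_lit 0, nat_lit 0, nat_lit 0, nat_lit 0, nat_lit 0, nat_lit 0, nat_lit 0, nat_lit 0, nat_lit 0, nat_lit 0, nat_lit 4, nat_lit 22, nat_lit 23], [nat_lit 0, nat_lit 0, nat_lit 0], [nat_lit 11, nat_lit 15, nat_lit 11, nat_lit 17, nat_lit 16], 0, 1),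
  ([nat_lit 11, nat_lit 12, nat_lit 13], [nat_lit 0, nat_lit 0, nat_lit 0, nat_lit 0, nat_lit 0, nat_lit 0, nat_lit 0, nat_lit 0, nat_lit 0, nat_lit 0, nat_lit 0, nat_lit 24, nat_lit 25, nat_lit 4], [nat_lit 0, nat_lit 0, nat_lit 0], [], 0, 0),
  ([nat_lit 11, nat_lit 13, nat_lit 11], [nat_lit 0, nat_lit 0, nat_lit 0, nat_lit 0, nat_lit 0, nat_lit 0, nat_lit 0, nat_lit 0, nat_lit 0, nat_lit 0, nat_lit 0, nat_lit 5, nat_lit 26, nat_lit 27], [nat_lit 0, nat_lit 0, nat_lit 0], [nat_lit 11, nat_lit 15, nat_lit 17, nat_lit 16, nat_lit 11, nat_lit 18], 0, 1),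
  ([nat_lit 11, nat_lit 13, nat_lit 12], [nat_lit 0, nat_lit 0, nat_lit 0, nat_lit 0, nat_lit 0, nat_lit 0, nat_lit 0, nat_lit 0, nat_lit 0, nat_lit 0, nat_lit 0, nat_lit 28, nat_lit 5, nat_lit 29], [nat_lit 0, nat_lit 0, nat_lit 0], [], 0, 0),
  ([nat_lit 12, nat_lit 11, nat_lit 12], [nat_lit 0, nat_lit 0, nat_lit 0, nat_lit 0, nat_lit 0, nat_lit 0, nat_lit 0, nat_lit 0, nat_lit 0, nat_lit 0, nat_lit 0, nat_lit 22, nat_lit 6, nat_lit 30], [nat_lit 0, nat_lit 0, nat_lit 0], [nat_lit 12], 0, 1),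
  ([nat_lit 12, nat_lit 11, nat_lit 13], [nat_lit 0, nat_lit 0, nat_lit 0, nat_lit 0, nat_lit 0, nat_lit 0, nat_lit 0, nat_lit 0, nat_lit 0, nat_lit 0, nat_lit 0, nat_lit 31, nat_lit 32, nat_lit 6], [nat_lit 0, nat_lit 0, nat_lit 0], [], 0, 0),
  ([nat_lit 12, nat_lit 13, nat_lit 11], [nat_lit 0, nat_lit 0, nat_lit 0, nat_lit 0, nat_lit 0, nat_lit 0, nat_lit 0, nat_lit 0, nat_lit 0, nat_lit 0, nat_lit 0, nat_lit 7, nat_lit 33, nat_lit 34], [nat_lit 0, nat_lit 0, nat_lit 0], [], 0, 0),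
  ([nat_lit 12, nat_lit 13, nat_lit 12], [nat_lit 0, nat_lit 0, nat_lit 0, nat_lit 0, nat_lit 0, nat_lit 0, nat_lit 0, nat_lit 0, nat_lit 0, nat_lit 0, nat_lit 0, nat_lit 35, nat_lit 7, nat_lit 36], [nat_lit 0, nat_lit 0, nat_lit 0], [nat_lit 15, nat_lit 11, nat_lit 17, nat_lit 18], 0, 1),
  ([nat_lit 13, nat_lit 11, nat_lit 12], [nat_lit 0, nat_lit 0, nat_lit 0, nat_lit 0, nat_lit 0, nat_lit 0, nat_lit 0, nat_lit 0, nat_lit 0, nat_lit 0, nat_lit 0, nat_lit 37, nat_lit 8, nat_lit 38], [nat_lit 0, nat_lit 0, nat_lit 0], [], 0, 0),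
  ([nat_lit 13, nat_lit 11, nat_lit 13], [nat_lit 0, nat_lit 0, nat_lit 0, nat_lit 0, nat_lit 0, nat_lit 0, nat_lit 0, nat_lit 0, nat_lit 0, nat_lit 0, nat_lit 0, nat_lit 27, nat_lit 39, nat_lit 8], [nat_lit 0, nat_lit 0, nat_lit 0], [nat_lit 15, nat_lit 17, nat_lit 18, nat_lit 17, nat_lit 15], 0, 1),
  ([nat_lit 13, nat_lit 12, nat_lit 11], [nat_lit 0, nat_lit 0, nat_lit 0, nat_lit 0, nat_lit 0, nat_lit 0, nat_lit 0, nat_lit 0, nat_lit 0, nat_lit 0, nat_lit 0, nat_lit 9, nat_lit 40, nat_lit 41], [nat_lit 0, nat_lit 0, nat_lit 0], [], 0, 0),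
  ([nat_lit 13, nat_lit 12, nat_lit 13], [nat_lit 0, nat_lit 0, nat_lit 0, nat_lit 0, nat_lit 0, nat_lit 0, nat_lit 0, nat_lit 0, nat_lit 0, nat_lit 0, nat_lit 0, nat_lit 42, nat_lit 36, nat_lit 9], [nat_lit 0, nat_lit 0, nat_lit 0], [nat_lit 15, nat_lit 16, nat_lit 11, nat_lit 17, nat_lit 15], 0, 1),
  ([nat_lit 11, nat_lit 12, nat_lit 11, nat_lit 12], [nat_lit 0, nat_lit 0, nat_lit 0, nat_lit 0, nat_lit 0, nat_lit 0, nat_lit 0, nat_lit 0, nat_lit 0, nat_lit 0, nat_lit 0, nat_lit 14, nat_lit 10, nat_lit 43], [nat_lit 0, nat_lit 0, nat_lit 0], [nat_lit 15, nat_lit 16, nat_lit 11, nat_lit 15, nat_lit 17, nat_lit 16], 0, 1),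
  ([nat_lit 11, nat_lit 12, nat_lit 11, nat_lit 13], [nat_lit 0, nat_lit 0, nat_lit 0, nat_lit 0, nat_lit 0, nat_lit 0, nat_lit 0, nat_lit 0, nat_lit 0, nat_lit 0, nat_lit 0, nat_lit 44, nat_lit 45, nat_lit 10], [nat_lit 0, nat_lit 0, nat_lit 0], [], 0, 0),
  ([nat_lit 11, nat_lit 12, nat_lit 13, nat_lit 11], [nat_lit 0, nat_lit 0, nat_lit 0, nat_lit 0, nat_lit 0, nat_lit 0, nat_lit 0, nat_lit 0, nat_lit 0, nat_lit 0, nat_lit 0, nat_lit 11, nat_lit 46, nat_lit 47], [nat_lit 0, nat_lit 0, nat_lit 0], [], 0, 0),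
  ([nat_lit 11, nat_lit 12, nat_lit 13, nat_lit 12], [nat_lit 0, nat_lit 0, nat_lit 0, nat_lit 0, nat_lit 0, nat_lit 0, nat_lit 0, nat_lit 0, nat_lit 0, nat_lit 0, nat_lit 0, nat_lit 48, nat_lit 11, nat_lit 49], [nat_lit 0, nat_lit 0, nat_lit 0], [], 0, 0),
  ([nat_lit 11, nat_lit 13, nat_lit 11, nat_lit 12], [nat_lit 0, nat_lit 0, nat_lit 0, nat_lit 0, nat_lit 0, nat_lit 0, nat_lit 0, nat_lit 0, nat_lit 0, nat_lit 0, nat_lit 0, nat_lit 50, nat_lit 12, nat_lit 51], [nat_lit 0, nat_lit 0, nat_lit 0], [], 0, 0),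
  ([nat_lit 11, nat_lit 13, nat_lit 11, nat_lit 13], [nat_lit 0, nat_lit 0, nat_lit 0, nat_lit 0, nat_lit 0, nat_lit 0, nat_lit 0, nat_lit 0, nat_lit 0, nat_lit 0, nat_lit 0, nat_lit 19, nat_lit 52, nat_lit 12], [nat_lit 0, nat_lit 0, nat_lit 0], [nat_lit 16, nat_lit 11, nat_lit 18, nat_lit 17, nat_lit 15, nat_lit 16], 0, 1),
  ([nat_lit 11, nat_lit 13, nat_lit 12, nat_lit 11], [nat_lit 0, nat_lit 0, nat_lit 0, nat_lit 0, nat_lit 0, nat_lit 0, nat_lit 0, nat_lit 0, nat_lit 0, nat_lit 0, nat_lit 0, nat_lit 13, nat_lit 53, nat_lit 54], [nat_lit 0, nat_lit 0, nat_lit 0], [], 0, 0),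
  ([nat_lit 11, nat_lit 13, nat_lit 12, nat_lit 13], [nat_lit 0, nat_lit 0, nat_lit 0, nat_lit 0, nat_lit 0, nat_lit 0, nat_lit 0, nat_lit 0, nat_lit 0, nat_lit 0, nat_lit 0, nat_lit 55, nat_lit 49, nat_lit 13], [nat_lit 0, nat_lit 0, nat_lit 0], [], 0, 0),
  ([nat_lit 12, nat_lit 11, nat_lit 12, nat_lit 13], [nat_lit 0, nat_lit 0, nat_lit 0, nat_lit 0, nat_lit 0, nat_lit 0, nat_lit 0, nat_lit 0, nat_lit 0, nat_lit 0, nat_lit 0, nat_lit 56, nat_lit 57, nat_lit 14], [nat_lit 0, nat_lit 0, nat_lit 0], [], 0, 0),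
  ([nat_lit 12, nat_lit 11, nat_lit 13, nat_lit 11], [nat_lit 0, nat_lit 0, nat_lit 0, nat_lit 0, nat_lit 0, nat_lit 0, nat_lit 0, nat_lit 0, nat_lit 0, nat_lit 0, nat_lit 0, nat_lit 15, nat_lit 58, nat_lit 59], [nat_lit 0, nat_lit 0, nat_lit 0], [], 0, 0),
  ([nat_lit 12, nat_lit 11, nat_lit 13, nat_lit 12], [nat_lit 0, nat_lit 0, nat_lit 0, nat_lit 0, nat_lit 0, nat_lit 0, nat_lit 0, nat_lit 0, nat_lit 0, nat_lit 0, nat_lit 0, nat_lit 60, nat_lit 15, nat_lit 61], [nat_lit 0, nat_lit 0, nat_lit 0], [], 0, 0),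
  ([nat_lit 12, nat_lit 13, nat_lit 11, nat_lit 12], [nat_lit 0, nat_lit 0, nat_lit 0, nat_lit 0, nat_lit 0, nat_lit 0, nat_lit 0, nat_lit 0, nat_lit 0, nat_lit 0, nat_lit 0, nat_lit 62, nat_lit 16, nat_lit 63], [nat_lit 0, nat_lit 0, nat_lit 0], [], 0, 0),
  ([nat_lit 12, nat_lit 13, nat_lit 11, nat_lit 13], [nat_lit 0, nat_lit 0, nat_lit 0, nat_lit 0, nat_lit 0, nat_lit 0, nat_lit 0, nat_lit 0, nat_lit 0, nat_lit 0, nat_lit 0, nat_lit 59, nat_lit 64, nat_lit 16], [nat_lit 0, nat_lit 0, nat_lit 0], [], 0, 0),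
  ([nat_lit 12, nat_lit 13, nat_lit 12, nat_lit 11], [nat_lit 0, nat_lit 0, nat_lit 0, nat_lit 0, nat_lit 0, nat_lit 0, nat_lit 0, nat_lit 0, nat_lit 0, nat_lit 0, nat_lit 0, nat_lit 17, nat_lit 65, nat_lit 66], [nat_lit 0, nat_lit 0, nat_lit 0], [], 0, 0),
  ([nat_lit 12, nat_lit 13, nat_lit 12, nat_lit 13], [nat_lit 0, nat_lit 0, nat_lit 0, nat_lit 0, nat_lit 0, nat_lit 0, nat_lit 0, nat_lit 0, nat_lit 0, nat_lit 0, nat_lit 0, nat_lit 49, nat_lit 21, nat_lit 17], [nat_lit 0, nat_lit 0, nat_lit 0], [nat_lit 15, nat_lit 11, nat_lit 17, nat_lit 15], 0, 1),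
  ([nat_lit 13, nat_lit 11, nat_lit 12, nat_lit 11], [nat_lit 0, nat_lit 0, nat_lit 0, nat_lit 0, nat_lit 0, nat_lit 0, nat_lit 0, nat_lit 0, nat_lit 0, nat_lit 0, nat_lit 0, nat_lit 18, nat_lit 67, nat_lit 68], [nat_lit 0, nat_lit 0, nat_lit 0], [], 0, 0),
  ([nat_lit 13, nat_lit 11, nat_lit 12, nat_lit 13], [nat_lit 0, nat_lit 0, nat_lit 0, nat_lit 0, nat_lit 0, nat_lit 0, nat_lit 0, nat_lit 0, nat_lit 0, nat_lit 0, nat_lit 0, nat_lit 69, nat_lit 66, nat_lit 18], [nat_lit 0, nat_lit 0, nat_lit 0], [], 0, 0),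
  ([nat_lit 13, nat_lit 11, nat_lit 13, nat_lit 12], [nat_lit 0, nat_lit 0, nat_lit 0, nat_lit 0, nat_lit 0, nat_lit 0, nat_lit 0, nat_lit 0, nat_lit 0, nat_lit 0, nat_lit 0, nat_lit 70, nat_lit 19, nat_lit 65], [nat_lit 0, nat_lit 0, nat_lit 0], [], 0, 0),
  ([nat_lit 13, nat_lit 12, nat_lit 11, nat_lit 12], [nat_lit 0, nat_lit 0, nat_lit 0, nat_lit 0, nat_lit 0, nat_lit 0, nat_lit 0, nat_lit 0, nat_lit 0, nat_lit 0, nat_lit 0, nat_lit 67, nat_lit 20, nat_lit 64], [nat_lit 0, nat_lit 0, nat_lit 0], [], 0, 0),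
  ([nat_lit 13, nat_lit 12, nat_lit 11, nat_lit 13], [nat_lit 0, nat_lit 0, nat_lit 0, nat_lit 0, nat_lit 0, nat_lit 0, nat_lit 0, nat_lit 0, nat_lit 0, nat_lit 0, nat_lit 0, nat_lit 71, nat_lit 63, nat_lit 20], [nat_lit 0, nat_lit 0, nat_lit 0], [], 0, 0),
  ([nat_lit 13, nat_lit 12, nat_lit 13, nat_lit 11], [nat_lit 0, nat_lit 0, nat_lit 0, nat_lit 0, nat_lit 0, nat_lit 0, nat_lit 0, nat_lit 0, nat_lit 0, nat_lit 0, nat_lit 0, nat_lit 21, nat_lit 61, nat_lit 57], [nat_lit 0, nat_lit 0, nat_lit 0], [], 0, 0),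
  ([nat_lit 11, nat_lit 12, nat_lit 11, nat_lit 12, nat_lit 13], [nat_lit 0, nat_lit 0, nat_lit 0, nat_lit 0, nat_lit 0, nat_lit 0, nat_lit 0, nat_lit 0, nat_lit 0, nat_lit 0, nat_lit 0, nat_lit 72, nat_lit 73, nat_lit 22], [nat_lit 0, nat_lit 0, nat_lit 0], [], 0, 0),
  ([nat_lit 11, nat_lit 12, nat_lit 11, nat_lit 13, nat_lit 11], [nat_lit 0, nat_lit 0, nat_lit 0, nat_lit 0, nat_lit 0, nat_lit 0, nat_lit 0, nat_lit 0, nat_lit 0, nat_lit 0, nat_lit 0, nat_lit 23, nat_lit 74, nat_lit 75], [nat_lit 0, nat_lit 0, nat_lit 0], [], 0, 0),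
  ([nat_lit 11, nat_lit 12, nat_lit 11, nat_lit 13, nat_lit 12], [nat_lit 0, nat_lit 0, nat_lit 0, nat_lit 0, nat_lit 0, nat_lit 0, nat_lit 0, nat_lit 0, nat_lit 0, nat_lit 0, nat_lit 0, nat_lit 76, nat_lit 23, nat_lit 77], [nat_lit 0, nat_lit 0, nat_lit 0], [], 0, 0),
  ([nat_lit 11, nat_lit 12, nat_lit 13, nat_lit 11, nat_lit 12], [nat_lit 0, nat_lit 0, nat_lit 0, nat_lit 0, nat_lit 0, nat_lit 0, nat_lit 0, nat_lit 0, nat_lit 0, nat_lit 0, nat_lit 0, nat_lit 78, nat_lit 24, nat_lit 79], [nat_lit 0, nat_lit 0, nat_lit 0], [], 0, 0),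
  ([nat_lit 11, nat_lit 12, nat_lit 13, nat_lit 11, nat_lit 13], [nat_lit 0, nat_lit 0, nat_lit 0, nat_lit 0, nat_lit 0, nat_lit 0, nat_lit 0, nat_lit 0, nat_lit 0, nat_lit 0, nat_lit 0, nat_lit 75, nat_lit 80, nat_lit 24], [nat_lit 0, nat_lit 0, nat_lit 0], [], 0, 0),
  ([nat_lit 11, nat_lit 12, nat_lit 13, nat_lit 12, nat_lit 11], [nat_lit 0, nat_lit 0, nat_lit 0, nat_lit 0, nat_lit 0, nat_lit 0, nat_lit 0, nat_lit 0, nat_lit 0, nat_lit 0, nat_lit 0, nat_lit 25, nat_lit 81, nat_lit 82], [nat_lit 0, nat_lit 0, nat_lit 0], [nat_lit 11, nat_lit 15, nat_lit 11, nat_lit 17, nat_lit 18], 0, 1),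
  ([nat_lit 11, nat_lit 12, nat_lit 13, nat_lit 12, nat_lit 13], [nat_lit 0, nat_lit 0, nat_lit 0, nat_lit 0, nat_lit 0, nat_lit 0, nat_lit 0, nat_lit 0, nat_lit 0, nat_lit 0, nat_lit 0, nat_lit 36, nat_lit 29, nat_lit 25], [nat_lit 0, nat_lit 0, nat_lit 0], [nat_lit 16, nat_lit 11, nat_lit 18, nat_lit 17, nat_lit 16, nat_lit 11, nat_lit 18, nat_lit 17, nat_lit 15], 0, 1),
  ([nat_lit 11, nat_lit 13, nat_lit 11, nat_lit 12, nat_lit 11], [nat_lit 0, nat_lit 0, nat_lit 0, nat_lit 0, nat_lit 0, nat_lit 0, nat_lit 0, nat_lit 0, nat_lit 0, nat_lit 0, nat_lit 0, nat_lit 26, nat_lit 83, nat_lit 84], [nat_lit 0, nat_lit 0, nat_lit 0], [], 0, 0),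
  ([nat_lit 11, nat_lit 13, nat_lit 11, nat_lit 12, nat_lit 13], [nat_lit 0, nat_lit 0, nat_lit 0, nat_lit 0, nat_lit 0, nat_lit 0, nat_lit 0, nat_lit 0, nat_lit 0, nat_lit 0, nat_lit 0, nat_lit 85, nat_lit 82, nat_lit 26], [nat_lit 0, nat_lit 0, nat_lit 0], [], 0, 0),
  ([nat_lit 11, nat_lit 13, nat_lit 11, nat_lit 13, nat_lit 12], [nat_lit 0, nat_lit 0, nat_lit 0, nat_lit 0, nat_lit 0, nat_lit 0, nat_lit 0, nat_lit 0, nat_lit 0, nat_lit 0, nat_lit 0, nat_lit 86, nat_lit 27, nat_lit 81], [nat_lit 0, nat_lit 0, nat_lit 0], [], 0, 0),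
  ([nat_lit 11, nat_lit 13, nat_lit 12, nat_lit 11, nat_lit 12], [nat_lit 0, nat_lit 0, nat_lit 0, nat_lit 0, nat_lit 0, nat_lit 0, nat_lit 0, nat_lit 0, nat_lit 0, nat_lit 0, nat_lit 0, nat_lit 83, nat_lit 28, nat_lit 80], [nat_lit 0, nat_lit 0, nat_lit 0], [], 0, 0),
  ([nat_lit 11, nat_lit 13, nat_lit 12, nat_lit 11, nat_lit 13], [nat_lit 0, nat_lit 0, nat_lit 0, nat_lit 0, nat_lit 0, nat_lit 0, nat_lit 0, nat_lit 0, nat_lit 0, nat_lit 0, nat_lit 0, nat_lit 87, nat_lit 79, nat_lit 28], [nat_lit 0, nat_lit 0, nat_lit 0], [], 0, 0),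
  ([nat_lit 11, nat_lit 13, nat_lit 12, nat_lit 13, nat_lit 11], [nat_lit 0, nat_lit 0, nat_lit 0, nat_lit 0, nat_lit 0, nat_lit 0, nat_lit 0, nat_lit 0, nat_lit 0, nat_lit 0, nat_lit 0, nat_lit 29, nat_lit 77, nat_lit 73], [nat_lit 0, nat_lit 0, nat_lit 0], [nat_lit 11, nat_lit 15, nat_lit 16, nat_lit 11, nat_lit 17, nat_lit 15], 0, 1),
  ([nat_lit 12, nat_lit 11, nat_lit 12, nat_lit 13, nat_lit 11], [nat_lit 0, nat_lit 0, nat_lit 0, nat_lit 0, nat_lit 0, nat_lit 0, nat_lit 0, nat_lit 0, nat_lit 0, nat_lit 0, nat_lit 0, nat_lit 30, nat_lit 88, nat_lit 89], [nat_lit 0, nat_lit 0, nat_lit 0], [], 0, 0),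
  ([nat_lit 12, nat_lit 11, nat_lit 12, nat_lit 13, nat_lit 12], [nat_lit 0, nat_lit 0, nat_lit 0, nat_lit 0, nat_lit 0, nat_lit 0, nat_lit 0, nat_lit 0, nat_lit 0, nat_lit 0, nat_lit 0, nat_lit 90, nat_lit 30, nat_lit 42], [nat_lit 0, nat_lit 0, nat_lit 0], [], 0, 0),
  ([nat_lit 12, nat_lit 11, nat_lit 13, nat_lit 11, nat_lit 12], [nat_lit 0, nat_lit 0, nat_lit 0, nat_lit 0, nat_lit 0, nat_lit 0, nat_lit 0, nat_lit 0, nat_lit 0, nat_lit 0, nat_lit 0, nat_lit 91, nat_lit 31, nat_lit 92], [nat_lit 0, nat_lit 0, nat_lit 0], [nat_lit 12, nat_lit 11, nat_lit 15, nat_lit 17, nat_lit 16, nat_lit 11, nat_lit 18], 0, 1),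
  ([nat_lit 12, nat_lit 11, nat_lit 13, nat_lit 11, nat_lit 13], [nat_lit 0, nat_lit 0, nat_lit 0, nat_lit 0, nat_lit 0, nat_lit 0, nat_lit 0, nat_lit 0, nat_lit 0, nat_lit 0, nat_lit 0, nat_lit 34, nat_lit 93, nat_lit 31], [nat_lit 0, nat_lit 0, nat_lit 0], [], 0, 0),
  ([nat_lit 12, nat_lit 11, nat_lit 13, nat_lit 12, nat_lit 11], [nat_lit 0, nat_lit 0, nat_lit 0, nat_lit 0, nat_lit 0, nat_lit 0, nat_lit 0, nat_lit 0, nat_lit 0, nat_lit 0, nat_lit 0, nat_lit 32, nat_lit 94, nat_lit 95], [nat_lit 0, nat_lit 0, nat_lit 0], [], 0, 0),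
  ([nat_lit 12, nat_lit 11, nat_lit 13, nat_lit 12, nat_lit 13], [nat_lit 0, nat_lit 0, nat_lit 0, nat_lit 0, nat_lit 0, nat_lit 0, nat_lit 0, nat_lit 0, nat_lit 0, nat_lit 0, nat_lit 0, nat_lit 77, nat_lit 42, nat_lit 32], [nat_lit 0, nat_lit 0, nat_lit 0], [nat_lit 16, nat_lit 11, nat_lit 18, nat_lit 17, nat_lit 16, nat_lit 11, nat_lit 15, nat_lit 17, nat_lit 18], 0, 1),
  ([nat_lit 12, nat_lit 13, nat_lit 11, nat_lit 12, nat_lit 11], [nat_lit 0, nat_lit 0, nat_lit 0, nat_lit 0, nat_lit 0, nat_lit 0, nat_lit 0, nat_lit 0, nat_lit 0, nat_lit 0, nat_lit 0, nat_lit 33, nat_lit 96, nat_lit 97], [nat_lit 0, nat_lit 0, nat_lit 0], [], 0, 0),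
  ([nat_lit 12, nat_lit 13, nat_lit 11, nat_lit 12, nat_lit 13], [nat_lit 0, nat_lit 0, nat_lit 0, nat_lit 0, nat_lit 0, nat_lit 0, nat_lit 0, nat_lit 0, nat_lit 0, nat_lit 0, nat_lit 0, nat_lit 80, nat_lit 41, nat_lit 33], [nat_lit 0, nat_lit 0, nat_lit 0], [nat_lit 11, nat_lit 15, nat_lit 17, nat_lit 16, nat_lit 18, nat_lit 17, nat_lit 15], 0, 1),
  ([nat_lit 12, nat_lit 13, nat_lit 11, nat_lit 13, nat_lit 12], [nat_lit 0, nat_lit 0, nat_lit 0, nat_lit 0, nat_lit 0, nat_lit 0, nat_lit 0, nat_lit 0, nat_lit 0, nat_lit 0, nat_lit 0, nat_lit 79, nat_lit 34, nat_lit 40], [nat_lit 0, nat_lit 0, nat_lit 0], [nat_lit 15, nat_lit 17, nat_lit 16, nat_lit 18, nat_lit 17, nat_lit 15], 0, 1),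
  ([nat_lit 12, nat_lit 13, nat_lit 12, nat_lit 11, nat_lit 12], [nat_lit 0, nat_lit 0, nat_lit 0, nat_lit 0, nat_lit 0, nat_lit 0, nat_lit 0, nat_lit 0, nat_lit 0, nat_lit 0, nat_lit 0, nat_lit 96, nat_lit 35, nat_lit 39], [nat_lit 0, nat_lit 0, nat_lit 0], [], 0, 0),
  ([nat_lit 12, nat_lit 13, nat_lit 12, nat_lit 11, nat_lit 13], [nat_lit 0, nat_lit 0, nat_lit 0, nat_lit 0, nat_lit 0, nat_lit 0, nat_lit 0, nat_lit 0, nat_lit 0, nat_lit 0, nat_lit 0, nat_lit 82, nat_lit 38, nat_lit 35], [nat_lit 0, nat_lit 0, nat_lit 0], [nat_lit 12, nat_lit 11, nat_lit 15, nat_lit 17, nat_lit 16, nat_lit 18, nat_lit 17, nat_lit 15], 0, 1),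
  ([nat_lit 13, nat_lit 11, nat_lit 12, nat_lit 11, nat_lit 12], [nat_lit 0, nat_lit 0, nat_lit 0, nat_lit 0, nat_lit 0, nat_lit 0, nat_lit 0, nat_lit 0, nat_lit 0, nat_lit 0, nat_lit 0, nat_lit 40, nat_lit 37, nat_lit 98], [nat_lit 0, nat_lit 0, nat_lit 0], [], 0, 0),
  ([nat_lit 13, nat_lit 11, nat_lit 12, nat_lit 11, nat_lit 13], [nat_lit 0, nat_lit 0, nat_lit 0, nat_lit 0, nat_lit 0, nat_lit 0, nat_lit 0, nat_lit 0, nat_lit 0, nat_lit 0, nat_lit 0, nat_lit 99, nat_lit 97, nat_lit 37], [nat_lit 0, nat_lit 0, nat_lit 0], [nat_lit 11, nat_lit 18, nat_lit 17, nat_lit 15, nat_lit 11, nat_lit 16, nat_lit 18], 0, 1),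
  ([nat_lit 13, nat_lit 11, nat_lit 12, nat_lit 13, nat_lit 11], [nat_lit 0, nat_lit 0, nat_lit 0, nat_lit 0, nat_lit 0, nat_lit 0, nat_lit 0, nat_lit 0, nat_lit 0, nat_lit 0, nat_lit 0, nat_lit 38, nat_lit 89, nat_lit 94], [nat_lit 0, nat_lit 0, nat_lit 0], [], 0, 0),
  ([nat_lit 13, nat_lit 11, nat_lit 13, nat_lit 12, nat_lit 11], [nat_lit 0, nat_lit 0, nat_lit 0, nat_lit 0, nat_lit 0, nat_lit 0, nat_lit 0, nat_lit 0, nat_lit 0, nat_lit 0, nat_lit 0, nat_lit 39, nat_lit 95, nat_lit 88], [nat_lit 0, nat_lit 0, nat_lit 0], [], 0, 0),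
  ([nat_lit 13, nat_lit 12, nat_lit 11, nat_lit 13, nat_lit 11], [nat_lit 0, nat_lit 0, nat_lit 0, nat_lit 0, nat_lit 0, nat_lit 0, nat_lit 0, nat_lit 0, nat_lit 0, nat_lit 0, nat_lit 0, nat_lit 41, nat_lit 92, nat_lit 90], [nat_lit 0, nat_lit 0, nat_lit 0], [], 0, 0),
  ([nat_lit 11, nat_lit 12, nat_lit 11, nat_lit 12, nat_lit 13, nat_lit 11], [nat_lit 0, nat_lit 0, nat_lit 0, nat_lit 0, nat_lit 0, nat_lit 0, nat_lit 0, nat_lit 0, nat_lit 0, nat_lit 0, nat_lit 0, nat_lit 43, nat_lit 100, nat_lit 101], [nat_lit 0, nat_lit 0, nat_lit 0], [], 0, 0),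
  ([nat_lit 11, nat_lit 12, nat_lit 11, nat_lit 12, nat_lit 13, nat_lit 12], [nat_lit 0, nat_lit 0, nat_lit 0, nat_lit 0, nat_lit 0, nat_lit 0, nat_lit 0, nat_lit 0, nat_lit 0, nat_lit 0, nat_lit 0, nat_lit 102, nat_lit 43, nat_lit 55], [nat_lit 0, nat_lit 0, nat_lit 0], [], 0, 0),
  ([nat_lit 11, nat_lit 12, nat_lit 11, nat_lit 13, nat_lit 11, nat_lit 12], [nat_lit 0, nat_lit 0, nat_lit 0, nat_lit 0, nat_lit 0, nat_lit 0, nat_lit 0, nat_lit 0, nat_lit 0, nat_lit 0, nat_lit 0, nat_lit 103, nat_lit 44, nat_lit 104], [nat_lit 0, nat_lit 0, nat_lit 0], [], 0, 0),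
  ([nat_lit 11, nat_lit 12, nat_lit 11, nat_lit 13, nat_lit 11, nat_lit 13], [nat_lit 0, nat_lit 0, nat_lit 0, nat_lit 0, nat_lit 0, nat_lit 0, nat_lit 0, nat_lit 0, nat_lit 0, nat_lit 0, nat_lit 0, nat_lit 47, nat_lit 105, nat_lit 44], [nat_lit 0, nat_lit 0, nat_lit 0], [], 0, 0),
  ([nat_lit 11, nat_lit 12, nat_lit 11, nat_lit 13, nat_lit 12, nat_lit 11], [nat_lit 0, nat_lit 0, nat_lit 0, nat_lit 0, nat_lit 0, nat_lit 0, nat_lit 0, nat_lit 0, nat_lit 0, nat_lit 0, nat_lit 0, nat_lit 45, nat_lit 106, nat_lit 107], [nat_lit 0, nat_lit 0, nat_lit 0], [], 0, 0),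
  ([nat_lit 11, nat_lit 12, nat_lit 11, nat_lit 13, nat_lit 12, nat_lit 13], [nat_lit 0, nat_lit 0, nat_lit 0, nat_lit 0, nat_lit 0, nat_lit 0, nat_lit 0, nat_lit 0, nat_lit 0, nat_lit 0, nat_lit 0, nat_lit 61, nat_lit 55, nat_lit 45], [nat_lit 0, nat_lit 0, nat_lit 0], [nat_lit 18, nat_lit 17, nat_lit 15, nat_lit 16, nat_lit 11, nat_lit 15, nat_lit 17, nat_lit 16, nat_lit 11, nat_lit 18], 0, 1),
  ([nat_lit 11, nat_lit 12, nat_lit 13, nat_lit 11, nat_lit 12, nat_lit 11], [nat_lit 0, nat_lit 0, nat_lit 0, nat_lit 0, nat_lit 0, nat_lit 0, nat_lit 0, nat_lit 0, nat_lit 0, nat_lit 0, nat_lit 0, nat_lit 46, nat_lit 108, nat_lit 109], [nat_lit 0, nat_lit 0, nat_lit 0], [], 0, 0),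
  ([nat_lit 11, nat_lit 12, nat_lit 13, nat_lit 11, nat_lit 12, nat_lit 13], [nat_lit 0, nat_lit 0, nat_lit 0, nat_lit 0, nat_lit 0, nat_lit 0, nat_lit 0, nat_lit 0, nat_lit 0, nat_lit 0, nat_lit 0, nat_lit 64, nat_lit 54, nat_lit 46], [nat_lit 0, nat_lit 0, nat_lit 0], [], 0, 0),
  ([nat_lit 11, nat_lit 12, nat_lit 13, nat_lit 11, nat_lit 13, nat_lit 12], [nat_lit 0, nat_lit 0, nat_lit 0, nat_lit 0, nat_lit 0, nat_lit 0, nat_lit 0, nat_lit 0, nat_lit 0, nat_lit 0, nat_lit 0, nat_lit 63, nat_lit 47, nat_lit 53], [nat_lit 0, nat_lit 0, nat_lit 0], [], 0, 0),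
  ([nat_lit 11, nat_lit 12, nat_lit 13, nat_lit 12, nat_lit 11, nat_lit 12], [nat_lit 0, nat_lit 0, nat_lit 0, nat_lit 0, nat_lit 0, nat_lit 0, nat_lit 0, nat_lit 0, nat_lit 0, nat_lit 0, nat_lit 0, nat_lit 108, nat_lit 48, nat_lit 52], [nat_lit 0, nat_lit 0, nat_lit 0], [], 0, 0),
  ([nat_lit 11, nat_lit 12, nat_lit 13, nat_lit 12, nat_lit 11, nat_lit 13], [nat_lit 0, nat_lit 0, nat_lit 0, nat_lit 0, nat_lit 0, nat_lit 0, nat_lit 0, nat_lit 0, nat_lit 0, nat_lit 0, nat_lit 0, nat_lit 66, nat_lit 51, nat_lit 48], [nat_lit 0, nat_lit 0, nat_lit 0], [nat_lit 15, nat_lit 11, nat_lit 18, nat_lit 17, nat_lit 15], 0, 1),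
  ([nat_lit 11, nat_lit 13, nat_lit 11, nat_lit 12, nat_lit 11, nat_lit 12], [nat_lit 0, nat_lit 0, nat_lit 0, nat_lit 0, nat_lit 0, nat_lit 0, nat_lit 0, nat_lit 0, nat_lit 0, nat_lit 0, nat_lit 0, nat_lit 53, nat_lit 50, nat_lit 110], [nat_lit 0, nat_lit 0, nat_lit 0], [], 0, 0),
  ([nat_lit 11, nat_lit 13, nat_lit 11, nat_lit 12, nat_lit 11, nat_lit 13], [nat_lit 0, nat_lit 0, nat_lit 0, nat_lit 0, nat_lit 0, nat_lit 0, nat_lit 0, nat_lit 0, nat_lit 0, nat_lit 0, nat_lit 0, nat_lit 111, nat_lit 109, nat_lit 50], [nat_lit 0, nat_lit 0, nat_lit 0], [], 0, 0),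
  ([nat_lit 11, nat_lit 13, nat_lit 11, nat_lit 12, nat_lit 13, nat_lit 11], [nat_lit 0, nat_lit 0, nat_lit 0, nat_lit 0, nat_lit 0, nat_lit 0, nat_lit 0, nat_lit 0, nat_lit 0, nat_lit 0, nat_lit 0, nat_lit 51, nat_lit 101, nat_lit 106], [nat_lit 0, nat_lit 0, nat_lit 0], [], 0, 0),
  ([nat_lit 11, nat_lit 13, nat_lit 11, nat_lit 13, nat_lit 12, nat_lit 11], [nat_lit 0, nat_lit 0, nat_lit 0, nat_lit 0, nat_lit 0, nat_lit 0, nat_lit 0, nat_lit 0, nat_lit 0, nat_lit 0, nat_lit 0, nat_lit 52, nat_lit 107, nat_lit 100], [nat_lit 0, nat_lit 0, nat_lit 0], [], 0, 0),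
  ([nat_lit 11, nat_lit 13, nat_lit 12, nat_lit 11, nat_lit 13, nat_lit 11], [nat_lit 0, nat_lit 0, nat_lit 0, nat_lit 0, nat_lit 0, nat_lit 0, nat_lit 0, nat_lit 0, nat_lit 0, nat_lit 0, nat_lit 0, nat_lit 54, nat_lit 104, nat_lit 102], [nat_lit 0, nat_lit 0, nat_lit 0], [], 0, 0),
  ([nat_lit 12, nat_lit 11, nat_lit 12, nat_lit 13, nat_lit 11, nat_lit 12], [nat_lit 0, nat_lit 0, nat_lit 0, nat_lit 0, nat_lit 0, nat_lit 0, nat_lit 0, nat_lit 0, nat_lit 0, nat_lit 0, nat_lit 0, nat_lit 112, nat_lit 56, nat_lit 70], [nat_lit 0, nat_lit 0, nat_lit 0], [], 0, 0),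
  ([nat_lit 12, nat_lit 11, nat_lit 12, nat_lit 13, nat_lit 11, nat_lit 13], [nat_lit 0, nat_lit 0, nat_lit 0, nat_lit 0, nat_lit 0, nat_lit 0, nat_lit 0, nat_lit 0, nat_lit 0, nat_lit 0, nat_lit 0, nat_lit 101, nat_lit 69, nat_lit 56], [nat_lit 0, nat_lit 0, nat_lit 0], [], 0, 0),
  ([nat_lit 12, nat_lit 11, nat_lit 12, nat_lit 13, nat_lit 12, nat_lit 11], [nat_lit 0, nat_lit 0, nat_lit 0, nat_lit 0, nat_lit 0, nat_lit 0, nat_lit 0, nat_lit 0, nat_lit 0, nat_lit 0, nat_lit 0, nat_lit 57, nat_lit 113, nat_lit 71], [nat_lit 0, nat_lit 0, nat_lit 0], [], 0, 0),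
  ([nat_lit 12, nat_lit 11, nat_lit 13, nat_lit 11, nat_lit 12, nat_lit 11], [nat_lit 0, nat_lit 0, nat_lit 0, nat_lit 0, nat_lit 0, nat_lit 0, nat_lit 0, nat_lit 0, nat_lit 0, nat_lit 0, nat_lit 0, nat_lit 58, nat_lit 114, nat_lit 115], [nat_lit 0, nat_lit 0, nat_lit 0], [], 0, 0),
  ([nat_lit 12, nat_lit 11, nat_lit 13, nat_lit 11, nat_lit 12, nat_lit 13], [nat_lit 0, nat_lit 0, nat_lit 0, nat_lit 0, nat_lit 0, nat_lit 0, nat_lit 0, nat_lit 0, nat_lit 0, nat_lit 0, nat_lit 0, nat_lit 105, nat_lit 71, nat_lit 58], [nat_lit 0, nat_lit 0, nat_lit 0], [nat_lit 11, nat_lit 16, nat_lit 11, nat_lit 17, nat_lit 18, nat_lit 17, nat_lit 15, nat_lit 16], 0, 1),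
  ([nat_lit 12, nat_lit 11, nat_lit 13, nat_lit 11, nat_lit 13, nat_lit 12], [nat_lit 0, nat_lit 0, nat_lit 0, nat_lit 0, nat_lit 0, nat_lit 0, nat_lit 0, nat_lit 0, nat_lit 0, nat_lit 0, nat_lit 0, nat_lit 104, nat_lit 59, nat_lit 113], [nat_lit 0, nat_lit 0, nat_lit 0], [nat_lit 16, nat_lit 11, nat_lit 17, nat_lit 18, nat_lit 17, nat_lit 15, nat_lit 16], 0, 1),
  ([nat_lit 12, nat_lit 11, nat_lit 13, nat_lit 12, nat_lit 11, nat_lit 12], [nat_lit 0, nat_lit 0, nat_lit 0, nat_lit 0, nat_lit 0, nat_lit 0, nat_lit 0, nat_lit 0, nat_lit 0, nat_lit 0, nat_lit 0, nat_lit 114, nat_lit 60, nat_lit 69], [nat_lit 0, nat_lit 0, nat_lit 0], [], 0, 0),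
  ([nat_lit 12, nat_lit 11, nat_lit 13, nat_lit 12, nat_lit 11, nat_lit 13], [nat_lit 0, nat_lit 0, nat_lit 0, nat_lit 0, nat_lit 0, nat_lit 0, nat_lit 0, nat_lit 0, nat_lit 0, nat_lit 0, nat_lit 0, nat_lit 107, nat_lit 70, nat_lit 60], [nat_lit 0, nat_lit 0, nat_lit 0], [], 0, 0),
  ([nat_lit 12, nat_lit 13, nat_lit 11, nat_lit 12, nat_lit 11, nat_lit 12], [nat_lit 0, nat_lit 0, nat_lit 0, nat_lit 0, nat_lit 0, nat_lit 0, nat_lit 0, nat_lit 0, nat_lit 0, nat_lit 0, nat_lit 0, nat_lit 65, nat_lit 62, nat_lit 116], [nat_lit 0, nat_lit 0, nat_lit 0], [], 0, 0),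
  ([nat_lit 12, nat_lit 13, nat_lit 11, nat_lit 12, nat_lit 11, nat_lit 13], [nat_lit 0, nat_lit 0, nat_lit 0, nat_lit 0, nat_lit 0, nat_lit 0, nat_lit 0, nat_lit 0, nat_lit 0, nat_lit 0, nat_lit 0, nat_lit 110, nat_lit 68, nat_lit 62], [nat_lit 0, nat_lit 0, nat_lit 0], [nat_lit 11, nat_lit 16, nat_lit 18, nat_lit 11, nat_lit 17, nat_lit 16, nat_lit 18], 0, 1),
  ([nat_lit 13, nat_lit 11, nat_lit 12, nat_lit 11, nat_lit 12, nat_lit 13], [nat_lit 0, nat_lit 0, nat_lit 0, nat_lit 0, nat_lit 0, nat_lit 0, nat_lit 0, nat_lit 0, nat_lit 0, nat_lit 0, nat_lit 0, nat_lit 109, nat_lit 116, nat_lit 67], [nat_lit 0, nat_lit 0, nat_lit 0], [nat_lit 16, nat_lit 18, nat_lit 11, nat_lit 17, nat_lit 16, nat_lit 18], 0, 1),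
  ([nat_lit 13, nat_lit 11, nat_lit 12, nat_lit 11, nat_lit 13, nat_lit 11], [nat_lit 0, nat_lit 0, nat_lit 0, nat_lit 0, nat_lit 0, nat_lit 0, nat_lit 0, nat_lit 0, nat_lit 0, nat_lit 0, nat_lit 0, nat_lit 68, nat_lit 117, nat_lit 114], [nat_lit 0, nat_lit 0, nat_lit 0], [], 0, 0),
  ([nat_lit 11, nat_lit 12, nat_lit 11, nat_lit 12, nat_lit 13, nat_lit 11, nat_lit 12], [nat_lit 0, nat_lit 0, nat_lit 0, nat_lit 0, nat_lit 0, nat_lit 0, nat_lit 0, nat_lit 0, nat_lit 0, nat_lit 0, nat_lit 0, nat_lit 118, nat_lit 72, nat_lit 86], [nat_lit 0, nat_lit 0, nat_lit 0], [], 0, 0),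
  ([nat_lit 11, nat_lit 12, nat_lit 11, nat_lit 12, nat_lit 13, nat_lit 11, nat_lit 13], [nat_lit 0, nat_lit 0, nat_lit 0, nat_lit 0, nat_lit 0, nat_lit 0, nat_lit 0, nat_lit 0, nat_lit 0, nat_lit 0, nat_lit 0, nat_lit 89, nat_lit 85, nat_lit 72], [nat_lit 0, nat_lit 0, nat_lit 0], [], 0, 0),
  ([nat_lit 11, nat_lit 12, nat_lit 11, nat_lit 12, nat_lit 13, nat_lit 12, nat_lit 11], [nat_lit 0, nat_lit 0, nat_lit 0, nat_lit 0, nat_lit 0, nat_lit 0, nat_lit 0, nat_lit 0, nat_lit 0, nat_lit 0, nat_lit 0, nat_lit 73, nat_lit 119, nat_lit 87], [nat_lit 0, nat_lit 0, nat_lit 0], [], 0, 0),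
  ([nat_lit 11, nat_lit 12, nat_lit 11, nat_lit 13, nat_lit 11, nat_lit 12, nat_lit 11], [nat_lit 0, nat_lit 0, nat_lit 0, nat_lit 0, nat_lit 0, nat_lit 0, nat_lit 0, nat_lit 0, nat_lit 0, nat_lit 0, nat_lit 0, nat_lit 74, nat_lit 120, nat_lit 121], [nat_lit 0, nat_lit 0, nat_lit 0], [nat_lit 18, nat_lit 17, nat_lit 16, nat_lit 11, nat_lit 15, nat_lit 17, nat_lit 15, nat_lit 18], 0, 1),
  ([nat_lit 11, nat_lit 12, nat_lit 11, nat_lit 13, nat_lit 11, nat_lit 12, nat_lit 13], [nat_lit 0, nat_lit 0, nat_lit 0, nat_lit 0, nat_lit 0, nat_lit 0, nat_lit 0, nat_lit 0, nat_lit 0, nat_lit 0, nat_lit 0, nat_lit 93, nat_lit 87, nat_lit 74], [nat_lit 0, nat_lit 0, nat_lit 0], [], 0, 0),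
  ([nat_lit 11, nat_lit 12, nat_lit 11, nat_lit 13, nat_lit 11, nat_lit 13, nat_lit 12], [nat_lit 0, nat_lit 0, nat_lit 0, nat_lit 0, nat_lit 0, nat_lit 0, nat_lit 0, nat_lit 0, nat_lit 0, nat_lit 0, nat_lit 0, nat_lit 92, nat_lit 75, nat_lit 119], [nat_lit 0, nat_lit 0, nat_lit 0], [], 0, 0),
  ([nat_lit 11, nat_lit 12, nat_lit 11, nat_lit 13, nat_lit 12, nat_lit 11, nat_lit 12], [nat_lit 0, nat_lit 0, nat_lit 0, nat_lit 0, nat_lit 0, nat_lit 0, nat_lit 0, nat_lit 0, nat_lit 0, nat_lit 0, nat_lit 0, nat_lit 120, nat_lit 76, nat_lit 85], [nat_lit 0, nat_lit 0, nat_lit 0], [], 0, 0),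
  ([nat_lit 11, nat_lit 12, nat_lit 11, nat_lit 13, nat_lit 12, nat_lit 11, nat_lit 13], [nat_lit 0, nat_lit 0, nat_lit 0, nat_lit 0, nat_lit 0, nat_lit 0, nat_lit 0, nat_lit 0, nat_lit 0, nat_lit 0, nat_lit 0, nat_lit 95, nat_lit 86, nat_lit 76], [nat_lit 0, nat_lit 0, nat_lit 0], [], 0, 0),
  ([nat_lit 11, nat_lit 12, nat_lit 13, nat_lit 11, nat_lit 12, nat_lit 11, nat_lit 12], [nat_lit 0, nat_lit 0, nat_lit 0, nat_lit 0, nat_lit 0, nat_lit 0, nat_lit 0, nat_lit 0, nat_lit 0, nat_lit 0, nat_lit 0, nat_lit 81, nat_lit 78, nat_lit 122], [nat_lit 0, nat_lit 0, nat_lit 0], [], 0, 0),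
  ([nat_lit 11, nat_lit 12, nat_lit 13, nat_lit 11, nat_lit 12, nat_lit 11, nat_lit 13], [nat_lit 0, nat_lit 0, nat_lit 0, nat_lit 0, nat_lit 0, nat_lit 0, nat_lit 0, nat_lit 0, nat_lit 0, nat_lit 0, nat_lit 0, nat_lit 98, nat_lit 84, nat_lit 78], [nat_lit 0, nat_lit 0, nat_lit 0], [], 0, 0),
  ([nat_lit 11, nat_lit 13, nat_lit 11, nat_lit 12, nat_lit 11, nat_lit 12, nat_lit 13], [nat_lit 0, nat_lit 0, nat_lit 0, nat_lit 0, nat_lit 0, nat_lit 0, nat_lit 0, nat_lit 0, nat_lit 0, nat_lit 0, nat_lit 0, nat_lit 97, nat_lit 122, nat_lit 83], [nat_lit 0, nat_lit 0, nat_lit 0], [], 0, 0),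
  ([nat_lit 11, nat_lit 13, nat_lit 11, nat_lit 12, nat_lit 11, nat_lit 13, nat_lit 11], [nat_lit 0, nat_lit 0, nat_lit 0, nat_lit 0, nat_lit 0, nat_lit 0, nat_lit 0, nat_lit 0, nat_lit 0, nat_lit 0, nat_lit 0, nat_lit 84, nat_lit 123, nat_lit 120], [nat_lit 0, nat_lit 0, nat_lit 0], [nat_lit 18, nat_lit 17, nat_lit 15, nat_lit 11, nat_lit 16, nat_lit 18], 0, 1),
  ([nat_lit 12, nat_lit 11, nat_lit 12, nat_lit 13, nat_lit 11, nat_lit 12, nat_lit 11], [nat_lit 0, nat_lit 0, nat_lit 0, nat_lit 0, nat_lit 0, nat_lit 0, nat_lit 0, nat_lit 0, nat_lit 0, nat_lit 0, nat_lit 0, nat_lit 88, nat_lit 124, nat_lit 125], [nat_lit 0, nat_lit 0, nat_lit 0], [], 0, 0),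
  ([nat_lit 12, nat_lit 11, nat_lit 12, nat_lit 13, nat_lit 12, nat_lit 11, nat_lit 12], [nat_lit 0, nat_lit 0, nat_lit 0, nat_lit 0, nat_lit 0, nat_lit 0, nat_lit 0, nat_lit 0, nat_lit 0, nat_lit 0, nat_lit 0, nat_lit 124, nat_lit 90, nat_lit 93], [nat_lit 0, nat_lit 0, nat_lit 0], [nat_lit 12, nat_lit 11, nat_lit 15, nat_lit 11, nat_lit 17, nat_lit 18], 0, 1),
  ([nat_lit 12, nat_lit 11, nat_lit 13, nat_lit 11, nat_lit 12, nat_lit 11, nat_lit 12], [nat_lit 0, nat_lit 0, nat_lit 0, nat_lit 0, nat_lit 0, nat_lit 0, nat_lit 0, nat_lit 0, nat_lit 0, nat_lit 0, nat_lit 0, nat_lit 94, nat_lit 91, nat_lit 99], [nat_lit 0, nat_lit 0, nat_lit 0], [], 0, 0),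
  ([nat_lit 12, nat_lit 11, nat_lit 13, nat_lit 11, nat_lit 12, nat_lit 11, nat_lit 13], [nat_lit 0, nat_lit 0, nat_lit 0, nat_lit 0, nat_lit 0, nat_lit 0, nat_lit 0, nat_lit 0, nat_lit 0, nat_lit 0, nat_lit 0, nat_lit 123, nat_lit 125, nat_lit 91], [nat_lit 0, nat_lit 0, nat_lit 0], [], 0, 0),
  ([nat_lit 12, nat_lit 13, nat_lit 11, nat_lit 12, nat_lit 11, nat_lit 12, nat_lit 13], [nat_lit 0, nat_lit 0, nat_lit 0, nat_lit 0, nat_lit 0, nat_lit 0, nat_lit 0, nat_lit 0, nat_lit 0, nat_lit 0, nat_lit 0, nat_lit 125, nat_lit 98, nat_lit 96], [nat_lit 0, nat_lit 0, nat_lit 0], [nat_lit 11, nat_lit 18, nat_lit 11, nat_lit 17, nat_lit 16, nat_lit 18], 0, 1),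
  ([nat_lit 13, nat_lit 11, nat_lit 12, nat_lit 11, nat_lit 13, nat_lit 11, nat_lit 12], [nat_lit 0, nat_lit 0, nat_lit 0, nat_lit 0, nat_lit 0, nat_lit 0, nat_lit 0, nat_lit 0, nat_lit 0, nat_lit 0, nat_lit 0, nat_lit 121, nat_lit 99, nat_lit 124], [nat_lit 0, nat_lit 0, nat_lit 0], [], 0, 0),
  ([nat_lit 11, nat_lit 12, nat_lit 11, nat_lit 12, nat_lit 13, nat_lit 11, nat_lit 12, nat_lit 11], [nat_lit 0, nat_lit 0, nat_lit 0, nat_lit 0, nat_lit 0, nat_lit 0, nat_lit 0, nat_lit 0, nat_lit 0, nat_lit 0, nat_lit 0, nat_lit 100, nat_lit 126, nat_lit 127], [nat_lit 0, nat_lit 0, nat_lit 0], [], 0, 0),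
  ([nat_lit 11, nat_lit 12, nat_lit 11, nat_lit 12, nat_lit 13, nat_lit 12, nat_lit 11, nat_lit 12], [nat_lit 0, nat_lit 0, nat_lit 0, nat_lit 0, nat_lit 0, nat_lit 0, nat_lit 0, nat_lit 0, nat_lit 0, nat_lit 0, nat_lit 0, nat_lit 126, nat_lit 102, nat_lit 105], [nat_lit 0, nat_lit 0, nat_lit 0], [], 0, 0),
  ([nat_lit 11, nat_lit 12, nat_lit 11, nat_lit 13, nat_lit 11, nat_lit 12, nat_lit 11, nat_lit 12], [nat_lit 0, nat_lit 0, nat_lit 0, nat_lit 0, nat_lit 0, nat_lit 0, nat_lit 0, nat_lit 0, nat_lit 0, nat_lit 0, nat_lit 0, nat_lit 106, nat_lit 103, nat_lit 111], [nat_lit 0, nat_lit 0, nat_lit 0], [], 0, 0),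
  ([nat_lit 11, nat_lit 12, nat_lit 11, nat_lit 13, nat_lit 11, nat_lit 12, nat_lit 11, nat_lit 13], [nat_lit 0, nat_lit 0, nat_lit 0, nat_lit 0, nat_lit 0, nat_lit 0, nat_lit 0, nat_lit 0, nat_lit 0, nat_lit 0, nat_lit 0, nat_lit 117, nat_lit 127, nat_lit 103], [nat_lit 0, nat_lit 0, nat_lit 0], [nat_lit 16, nat_lit 11, nat_lit 18, nat_lit 11, nat_lit 17, nat_lit 16, nat_lit 18], 0, 1),
  ([nat_lit 11, nat_lit 12, nat_lit 13, nat_lit 11, nat_lit 12, nat_lit 11, nat_lit 12, nat_lit 13], [nat_lit 0, nat_lit 0, nat_lit 0, nat_lit 0, nat_lit 0, nat_lit 0, nat_lit 0, nat_lit 0, nat_lit 0, nat_lit 0, nat_lit 0, nat_lit 127, nat_lit 110, nat_lit 108], [nat_lit 0, nat_lit 0, nat_lit 0], [], 0, 0),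
  ([nat_lit 11, nat_lit 13, nat_lit 11, nat_lit 12, nat_lit 11, nat_lit 13, nat_lit 11, nat_lit 12], [nat_lit 0, nat_lit 0, nat_lit 0, nat_lit 0, nat_lit 0, nat_lit 0, nat_lit 0, nat_lit 0, nat_lit 0, nat_lit 0, nat_lit 0, nat_lit 115, nat_lit 111, nat_lit 126], [nat_lit 0, nat_lit 0, nat_lit 0], [nat_lit 11, nat_lit 16, nat_lit 11, nat_lit 18, nat_lit 11, nat_lit 17, nat_lit 16, nat_lit 18], 0, 1),
  ([nat_lit 12, nat_lit 11, nat_lit 12, nat_lit 13, nat_lit 11, nat_lit 12, nat_lit 11, nat_lit 12], [nat_lit 0, nat_lit 0, nat_lit 0, nat_lit 0, nat_lit 0, nat_lit 0, nat_lit 0, nat_lit 0, nat_lit 0, nat_lit 0, nat_lit 0, nat_lit 113, nat_lit 112, nat_lit 117], [nat_lit 0, nat_lit 0, nat_lit 0], [], 0, 0),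
  ([nat_lit 12, nat_lit 11, nat_lit 12, nat_lit 13, nat_lit 11, nat_lit 12, nat_lit 11, nat_lit 13], [nat_lit 0, nat_lit 0, nat_lit 0, nat_lit 0, nat_lit 0, nat_lit 0, nat_lit 0, nat_lit 0, nat_lit 0, nat_lit 0, nat_lit 0, nat_lit 116, nat_lit 115, nat_lit 112], [nat_lit 0, nat_lit 0, nat_lit 0], [], 0, 0),
  ([nat_lit 11, nat_lit 12, nat_lit 11, nat_lit 12, nat_lit 13, nat_lit 11, nat_lit 12, nat_lit 11, nat_lit 12], [nat_lit 0, nat_lit 0, nat_lit 0, nat_lit 0, nat_lit 0, nat_lit 0, nat_lit 0, nat_lit 0, nat_lit 0, nat_lit 0, nat_lit 0, nat_lit 119, nat_lit 118, nat_lit 123], [nat_lit 0, nat_lit 0, nat_lit 0], [nat_lit 11, nat_lit 12, nat_lit 11, nat_lit 15, nat_lit 11, nat_lit 17, nat_lit 18], 0, 1),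
  ([nat_lit 11, nat_lit 12, nat_lit 11, nat_lit 12, nat_lit 13, nat_lit 11, nat_lit 12, nat_lit 11, nat_lit 13], [nat_lit 0, nat_lit 0, nat_lit 0, nat_lit 0, nat_lit 0, nat_lit 0, nat_lit 0, nat_lit 0, nat_lit 0, nat_lit 0, nat_lit 0, nat_lit 122, nat_lit 121, nat_lit 118], [nat_lit 0, nat_lit 0, nat_lit 0], [nat_lit 18, nat_lit 11, nat_lit 17, nat_lit 16, nat_lit 18], 0, 1)]

noncomputable def Cs : List ICls := [([], 0, [([nat_lit 11], 0), ([nat_lit 12], 0), ([nat_lit 13], 0), ([nat_lit 15], 0)], [(0, [], []), (1, [], [1]), (3, [nat_lit 2, nat_lit 3, nat_lit 1, nat_lit 2], [1,3]), (7, [nat_lit 4, nat_lit 5, nat_lit 3, nat_lit 4, nat_lit 2, nat_lit 3, nat_lit 1, nat_lit 2, nat_lit 4, nat_lit 5, nat_lit 3, nat_lit 4], [1,3,5])], unp 1020 (nat_lit 0x161030000d4020000e30100016301000320030001fe010001340300034d0200020e0300013f010001ac000002c00100008e0100020f0300020f0200020f000001290300019301000156010000c302000126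0100008f010003e0000002ea030003ef01000213000000ca030000ca020001e50000016201000138010000ba020000ba000003d0020003d0000001a20100029b0200023d000002c1010003bd020001a30000037e0200037e010003820000039003000390000002a2010002ef030002ef0200029d0300029d0100020b0200026402000264010000d6020001a5030001a50100001d010002360300029a010001fd00000296030002960200029601000295010003800100016500000386020000ed030000ed01000186030001860000016d010003d20000038d00000342030003420100026d020001cf030001cf0200013a020001af0100038c0300038c0200038c0000023e010000e90000004d0300004d000003210200025d0100025d0000023c020002ce010003a6010002e5030002e50200034f0300034f000002ba030002ba0100031100000047010000470000005d0300005d000000730000001b0300019603000196010000c5030000c5020000c50000002f0300002f0200002f000001a401000068000001d8000000f4010003d9030003d90200033c010003b1020003d6030003d6010002540200019a0300019a020000fd010001c1010001c1000000d8010000d8000002c3020002c300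0000e101000231010001640300029702000297000001a7020003b00100038e0100038e000002c6030002c60000025c010001e70100022701000301020001c002000371030003710000022b0100021800000113030001130000039e0300039e0200039e010002b1030002b10000020d0000031d0300031d0200031d010002920000039b0300039b020003350100039c0100002e0000010d020002a7020002a7000003280000006600000058000001150300011502000115010000e6030000e6020000e60000001e000003f3010003f20100025503000255020001900200029903000299020002990000026f01000137020002cc030002cc000002c9020002c9000001ae030001ae020001ae000001ce010001ce000000ee010003ed030003ed020003ed000003a80100016700000187010001cc030001cc020001cc00000249010001b30100016b000002b3030002c70300034e010000e8010000e8000000fa010000690100026e000003a5000003bf030003bf01000230020002300000038102000381000000eb000002b60300039f0300035f010002f50100026903000215030002150000028f0100033902000027020000790100007503000075020000750000009e01000067010001170100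00e40000004c010002eb030001b4010001b40000027001000270000003b8030003b8020003b8000001be010001be00000131030001310000037902000379010000d1030000d1000000cd0100029c0200022d0100012e0100037c020003b5000002c8030002c8020002c80100034101000341000000e7010000e7000001b5030001b502000284020003de020003de0100038703000387000002e1030002e1020002e10100022e01000241000003580100029303000281010002f3030002f3000003620100018c000002120200021200000392030001e8020001e8010001e4020002ee030002ee000000c1010001210300028303000130030001440200014401000157010001fa030000d0030000d0020002e403000124030002d1030002d1020002d100000367010002f2030002f2020002f2000003600100027a0100027a000001490300028a010003f6000003f101000256030002560200025600000352000002d00000004e0200004e000002de000003550100008702000056030000560200005600000099010000720100035d010000c7020003fc030003fc020003fc010000a301000354000001fc020001fc0100032301000323000000d7020000d70000031a0200031a010000f3010003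3b01000278020002780100018a010001ad020001ad000002440100024400000217020001d7000001b6020001740100005402000054010001810100017c0100018402000184010002b003000145030001450200011401000171020001710100038b000003470300034702000347010002db000000fc030000fc010003d4000002be01000059030003ab010003ab0000039a0300039a000003d1020003d101000388030003880000034402000344010002d300000366030003660200020a0300020a020003f4010003f5030003f5010002760300027600000017030000170200003d0100003d00000057030000570000009b0300009b0200009b0100001c0100004a030000890200027f0100027f0000033d010001b1010001b100000142030001420100027d0200027d0100027d0000014e0300014e0100014e0000037003000370020003020200030201000302000000c2010002e2030002e2020002e2010003db020003db000003840000034803000348020003480100017a0200017a0000033e000000f60000027b030003e7030003e7020003e70000030e0300030e000002210300022102000221000003cc010003cf010003cf000002f0030002f00000036103000361020003610100028e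0300028e0000036d0100036d0000018f02000112030001df000002dd030002dd000001280300012203000122020001220000015e0100014f0200014f010001b2030001b2000000ff0100019703000197020000af0100035e010000c4020000c40000036b0100036b0000036c0100036c000002850300028502000285000003ff030003ff020003ff010000930200036a0100036a0000006a010000520300011c0200011c01000094020000940100003a0100003a000000740300009c0300009c0200009c01000350010003500000009503000095020000950000010a0300010a0200010a0100008c0200008c0100008c00000325030000f503000334030003340000018902000189010002bb030002bb000001da020001da01000182030001820100006203000062000001dc010001dc000001720300017202000172010001d2030001d2000003eb020003eb00000329010001bc030001bc0000021102000211010002110000011a000003940300039402000394010003e8030003e8020003e80000036901000369000002a5030002a5020002a5000003fb030003fb020003fb010000330100003b0300003b0100003b0000002a0300002a0200002a0000027202000272000001410300014101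0001410000028203000282020002820100030d0300030d0200030d000003e4030003e4020003e40000010501000337030003370200033700000206010002fc010003c0010003c0000003c60300036e0100036e00000310010000a20200019e0200006f000000510000011f0300011f0200011f0100015d0100015d000001bf030001bf020001bf000000770000009f0300009f0200009f010000a4020003530300035301000353000000a5030000a50200005c0300005c0200005c000000340000003c0300003c0100003c000000910200008601000019000000490000008a0300008a0200008a010002aa010001790300017902000179000000610000000e010001d1030001d1020001d1000001f6010002660100026600000198010002d8030002d8020002d800000265010000a602000357010003570000003503000035020000460100028d0300028d0200028d000002ff01000205010002a9020002a9010002a900000203030003c9030003c9000000a1020000b1020000b10100007d0000005f0300005f0200005f0000019b0300019b0100003f0100003f0000009203000092020000920100007801000032030000320200003200000025030000250000002903000029020000290000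0106020001060100000d0100000d000001f5010001f5000002af030001580300032a0100032a000000960300009602000096000000260200031301000313000002fa030002600300026002000260010000b2010000b20000007b0300007b0100007b000000310200003100000016020000160100004502000045010000450000000b0300010303000103020001030100008502000085010000850000032c0300032c0100032c000000b4030000b402000015020000150100001500000043030000430100004300000083030000830200008301000023030000230200002300000007010001a601000223010000ea0000039d0300006301000116010001ba000001330300012f0100012f0000037d020002ca020000e500000291030002e60300025703000257020002400100024000000183030001ec020001e0020002ec030002ec000002b20300005b030003af010003980300038a0000034502000345010002d2000003f00100027400000055030000550000009a0200027e0100027e0000014c0300014c0100037202000306000000c0010002e3030002e3020002e3010003da020003850000034a0200034a010003ce0100036302000363010002df000000fe010000ab0100035c010000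c6020000c600000287000003fe01000108030003270300018d020002b9030002b9000001db020001db0100018002000180010003c10100012003000120020001dd000001700200017001000210020002100000011b000003960300039602000396010003ea030003ea020003ea0000036801000368000002a4030002a4000003f9030003f9020003f901000039010000390000027302000273000001400100028003000280020002800100030f0300030f0200030f000003e5030003e5020003e5000003c70300036f0100036f0000011d0200011d010001bd030001bd020001bd000000760000009d0300009d0200009d01000351010003510000004800000088020000880100017b0300017b0200017b00000060000002a8010003c80300015f010001d0030001d0020001d0000002d9030002d9020002d900000267010000a70200035601000356000000370200028c0300028c0200028c000002fd01000204010003cb030003cb000000a00200005e0300005e0200005e000001990100003e0100003e00000090020000280300002802000028000001040100000c0100026103000261020002610100019f0300019f0200007c000001f40100032b0100032b000000970300009702000097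0000031201000312000002fb0300026202000262010000b30100007a0100007a000000300200003000000044010000440000000a0300010103000101020001010100032e0100032e000000b60200007f000000120200010203000102020001020100008402000084010000840000032d0300032d0100032d000000b5030000b5020000140200001401000042030000420100004200000081020000810100001102000011000000410100004100000082030000820200008201000022030000220200002200000021030000210200002100000006010000050100000500000003030003ca00000263020002630100007e0000010003000100020001000100032f0100032f000000b7020000100200004001000040000000800200008001000020030000200200002000000004010000020300000100)),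
  ([nat_lit 11], 0, [([nat_lit 1], 3), ([nat_lit 7], 320), ([nat_lit 15, nat_lit 11, nat_lit 18, nat_lit 11, nat_lit 15], 0), ([nat_lit 12, nat_lit 11, nat_lit 12], 0)], [(0, [nat_lit 3, nat_lit 1, nat_lit 2], [1,3]), (4, [nat_lit 3, nat_lit 1, nat_lit 2], [1,3,5])], unp 62 (nat_lit 0x140300001703000154030000b302000157030000b0020000b8030001ff020001f3010000bb030001fc020001f0010001f80300001f020000bf01000158020001fb0300001c020000bc0100015b020001530200015f010000180200000b030001500200015c0100001b0200000803000013010001f40200014b0300014b01000010010001f70200014803000148010000b40200014703000147020000b702000144030001440200000703000007010000040300000401000004000001e3010001e0010001ef020001ec0200000f0300000c0300014f0300014f0100014c0300014c010001430200014002000003010000000100000000))]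

def Reps : List (List ℕ) := [[], [1], [1,3], [1,3,5]]

noncomputable def chk : List ℕ → Bool := fixB Fi22.img 10 Fi22.bs

end Cfsg.H6.Fi22I
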